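import Mathlib.AlgebraicGeometry.AffineSpace
import Mathlib.AlgebraicGeometry.Properties
import Mathlib.Algebra.MvPolynomial.Nilpotent

/-! # Units on affine space over a reduced scheme come from the base -/

set_option linter.all false

universe u

open CategoryTheory AlgebraicGeometry Opposite

noncomputable section

namespace Groth.Agent.UnitsAn

theorem exists_const_of_field (n : Type u) (K : Type u) [Field K] (w : Γ(𝔸(n; Spec (CommRingCat.of K)), ⊤))
    (hw : IsUnit w) :
    ∃ c, (𝔸(n; Spec (CommRingCat.of K)) ↘ Spec (CommRingCat.of K)).appTop c = w := by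
  let e := AffineSpace.SpecIso n (CommRingCat.of K)
  let P := (Scheme.ΓSpecIso (CommRingCat.of (MvPolynomial n K))).hom (e.inv.appTop w)
  have hP : IsUnit P := (hw.map e.inv.appTop.hom).map (Scheme.ΓSpecIso _).hom.hom
  obtain ⟨-, hdeg⟩ := MvPolynomial.isUnit_iff_totalDegree_of_isReduced.1 hP
  rw [MvPolynomial.totalDegree_eq_zero_iff_eq_C] at hdeg
  refine ⟨(Scheme.ΓSpecIso (CommRingCat.of K)).inv (P.coeff 0), ?_⟩
  have hinj : Function.Injective e.inv.appTop := by
    intro a b hab
    have := congrArg e.hom.appTop hab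
    rwa [← CommRingCat.comp_apply, ← CommRingCat.comp_apply, ← Scheme.Hom.comp_appTop, Iso.hom_inv_id] at this
  apply hinj
  apply (ConcreteCategory.bijective_of_isIso (Scheme.ΓSpecIso (CommRingCat.of (MvPolynomial n K))).hom).1
  change _ = P
  have h1 : (𝔸(n; Spec (CommRingCat.of K)) ↘ Spec (CommRingCat.of K)).appTop ≫ e.inv.appTop =
      (Spec.map (CommRingCat.ofHom (MvPolynomial.C : K →+* MvPolynomial n K))).appTop := by
    rw [← Scheme.Hom.comp_appTop, AffineSpace.SpecIso_inv_over]

  have h2 := ConcreteCategory.congr_hom h1 ((Scheme.ΓSpecIso (CommRingCat.of K)).inv (P.coeff 0))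
  have h3 := ConcreteCategory.congr_hom
    (Scheme.ΓSpecIso_naturality (CommRingCat.ofHom (MvPolynomial.C : K →+* MvPolynomial n K)))
    ((Scheme.ΓSpecIso (CommRingCat.of K)).inv (P.coeff 0))
  simp only [CommRingCat.comp_apply] at h2 h3
  refine (congrArg _ h2).trans (h3.trans ?_)
  rw [← CommRingCat.comp_apply]
  simp only [Iso.inv_hom_id, CommRingCat.id_apply]
  rw [Iso.inv_hom_id_assoc]
  exact hdeg.symm

theorem exists_const (n : Type u) (X : Scheme.{u}) [IsReduced X] (w : Γ(𝔸(n; X), ⊤)) (hw : IsUnit w) :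
    ∃ v : Γ(X, ⊤), IsUnit v ∧ (𝔸(n; X) ↘ X).appTop v = w := by
  let s0 : X ⟶ 𝔸(n; X) := AffineSpace.homOfVector (𝟙 X) (fun _ => 0)
  refine ⟨s0.appTop w, hw.map s0.appTop.hom, ?_⟩
  rw [← sub_eq_zero, ← basicOpen_eq_bot_iff]
  set g := (𝔸(n; X) ↘ X).appTop (s0.appTop w) - w with hg
  refine eq_bot_iff.2 fun x hx => ?_
  let K := 𝔸(n; X).residueField x
  let z : Spec K ⟶ 𝔸(n; X) := 𝔸(n; X).fromSpecResidueField x
  have key : z.appTop g = 0 := by
    let q : Spec (CommRingCat.of K) ⟶ X := z ≫ 𝔸(n; X) ↘ X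
    let A : Spec (CommRingCat.of K) ⟶ 𝔸(n; Spec (CommRingCat.of K)) :=
      AffineSpace.homOfVector (𝟙 _) (fun i => z.appTop (AffineSpace.coord X i))
    let Z : Spec (CommRingCat.of K) ⟶ 𝔸(n; Spec (CommRingCat.of K)) :=
      AffineSpace.homOfVector (𝟙 _) (fun _ => 0)
    have hA : A ≫ AffineSpace.map n q = z := by
      apply AffineSpace.hom_ext
      · rw [Category.assoc, AffineSpace.map_over, AffineSpace.homOfVector_over_assoc, Category.id_comp]
      · intro i
        rw [Scheme.Hom.comp_appTop, CommRingCat.comp_apply, AffineSpace.map_appTop_coord,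
          AffineSpace.homOfVector_appTop_coord]
    have hZ : Z ≫ AffineSpace.map n q = q ≫ s0 := by
      apply AffineSpace.hom_ext
      · rw [Category.assoc, AffineSpace.map_over, AffineSpace.homOfVector_over_assoc, Category.id_comp,
          Category.assoc, AffineSpace.homOfVector_over, Category.comp_id]
      · intro i
        rw [Scheme.Hom.comp_appTop, CommRingCat.comp_apply, AffineSpace.map_appTop_coord,
          AffineSpace.homOfVector_appTop_coord, Scheme.Hom.comp_appTop, CommRingCat.comp_apply,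
          AffineSpace.homOfVector_appTop_coord, map_zero]
    obtain ⟨c, hc⟩ := exists_const_of_field n K ((AffineSpace.map n q).appTop w)
      (hw.map (AffineSpace.map n q).appTop.hom)
    have hval : ∀ (B : Spec (CommRingCat.of K) ⟶ 𝔸(n; Spec (CommRingCat.of K))),
        B ≫ 𝔸(n; Spec (CommRingCat.of K)) ↘ Spec (CommRingCat.of K) = 𝟙 _ →
        (B ≫ AffineSpace.map n q).appTop w = c := by
      intro B hB
      rw [Scheme.Hom.comp_appTop, CommRingCat.comp_apply, ← hc, ← CommRingCat.comp_apply, ← Scheme.Hom.comp_appTop, hB]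
      rfl
    have e1 : z.appTop w = c := hA ▸ hval A (AffineSpace.homOfVector_over _ _)
    have e2 : z.appTop ((𝔸(n; X) ↘ X).appTop (s0.appTop w)) = c := by
      rw [← CommRingCat.comp_apply, ← Scheme.Hom.comp_appTop, ← CommRingCat.comp_apply, ← Scheme.Hom.comp_appTop]
      change (q ≫ s0).appTop w = c
      exact hZ ▸ hval Z (AffineSpace.homOfVector_over _ _)
    rw [hg, map_sub, e1, e2, sub_self]
  have h0 : z ⁻¹ᵁ 𝔸(n; X).basicOpen g = ⊥ := by
    rw [Scheme.preimage_basicOpen_top, key, Scheme.basicOpen_zero]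
  have hmem : IsLocalRing.closedPoint K ∈ z ⁻¹ᵁ 𝔸(n; X).basicOpen g := by
    change z (IsLocalRing.closedPoint K) ∈ 𝔸(n; X).basicOpen g
    rw [show z (IsLocalRing.closedPoint K) = x from 𝔸(n; X).fromSpecResidueField_apply x _]
    exact hx
  rw [h0] at hmem
  exact hmem.elim

end Groth.Agent.UnitsAn
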